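import Groth.Agent.Lib.Thickening.Morphisms
import Groth.Agent.Lib.Thickening.Affine
import Mathlib.AlgebraicGeometry.Morphisms.ClosedImmersion
import Mathlib.AlgebraicGeometry.Morphisms.Flat
import Mathlib.AlgebraicGeometry.Morphisms.Finite
import Mathlib.RingTheory.Nakayama

/-!
# Closed immersions are detected after base change along a thickening
-/

universe u

open CategoryTheory Limits AlgebraicGeometry

namespace GrothLib.ClosedBC6

theorem surjective_of_pushout {A B A' B' : CommRingCat.{u}} {φ : A ⟶ B} {π : A ⟶ A'} {π' : B ⟶ B'} {φ' : A' ⟶ B'}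
    (h : IsPushout φ π π' φ') (hπ : Function.Surjective π) (hnil : RingHom.ker π.hom ≤ nilradical A)
    (hφ : φ.hom.Finite) (hφ' : Function.Surjective φ') : Function.Surjective φ := by
  let J := (RingHom.ker π.hom).map φ.hom
  let mkJ : B ⟶ CommRingCat.of (B ⧸ J) := CommRingCat.ofHom (Ideal.Quotient.mk J)
  have hk : RingHom.ker π.hom ≤ RingHom.ker (φ ≫ mkJ).hom := fun κ hκ =>
    Ideal.Quotient.eq_zero_iff_mem.mpr (Ideal.mem_map_of_mem _ hκ)
  let τ : A' ⟶ CommRingCat.of (B ⧸ J) := CommRingCat.ofHom (π.hom.liftOfSurjective hπ ⟨(φ ≫ mkJ).hom, hk⟩)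
  have hτ : φ ≫ mkJ = π ≫ τ :=
    CommRingCat.hom_ext (RingHom.liftOfSurjective_comp π.hom hπ ⟨(φ ≫ mkJ).hom, hk⟩).symm
  have hker : ∀ w, π' w = 0 → w ∈ J := fun w hw => by
    have h' := congr($(h.inl_desc mkJ τ hτ) w)
    rw [CommRingCat.comp_apply, hw, map_zero] at h'
    exact Ideal.Quotient.eq_zero_iff_mem.mp h'.symm
  algebraize [φ.hom]
  haveI : Module.Finite A B := hφ
  have hle : (⊤ : Submodule A B) ≤ LinearMap.range (Algebra.linearMap A B) ⊔ RingHom.ker π.hom • ⊤ := by
    intro b _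
    obtain ⟨a', ha'⟩ := hφ' (π' b)
    obtain ⟨a, rfl⟩ := hπ a'
    have : b - φ a ∈ J := hker _ (by
      rw [map_sub, show π' (φ a) = φ' (π a) from congr($(h.w) a), ha', sub_self])
    rw [← add_sub_cancel (φ a) b]
    refine Submodule.add_mem_sup ⟨a, rfl⟩ ?_
    rw [Ideal.smul_top_eq_map]
    exact this
  have := Submodule.le_of_le_smul_of_le_jacobson_bot Module.Finite.fg_top
    (hnil.trans (Ideal.radical_le_jacobson (I := (⊥ : Ideal A)))) hle
  intro b
  exact this (Submodule.mem_top : b ∈ ⊤)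

theorem isClosedImmersion_of_baseChange {X S S' : Scheme.{u}} (f : X ⟶ S) (i : S' ⟶ S) [IsClosedImmersion i]
    [Surjective i] [LocallyOfFiniteType f] [IsClosedImmersion (pullback.snd f i)] : IsClosedImmersion f := by
  haveI : Surjective (pullback.fst f i) := MorphismProperty.pullback_fst _ _ ‹_›
  haveI : IsIntegralHom f := by
    refine (GrothLib.Thickening.isIntegralHom_comp_iff (pullback.fst f i) f).mp ?_
    rw [pullback.condition]
    infer_instance
  haveI : IsFinite f := (IsFinite.iff_isIntegralHom_and_locallyOfFiniteType f).mpr ⟨inferInstance, inferInstance⟩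
  refine isClosedImmersion_iff_isAffineHom.mpr ⟨inferInstance, fun U hU => ?_⟩
  let H := (IsPullback.of_hasPullback f i)
  have hpo := (isIso_pushoutSection_iff H (UT := i ⁻¹ᵁ U) (UX := f ⁻¹ᵁ U) le_rfl le_rfl
      (UY := pullback.snd f i ⁻¹ᵁ (i ⁻¹ᵁ U)) (by
        rw [← Scheme.Hom.comp_preimage, ← Scheme.Hom.comp_preimage, pullback.condition, inf_idem])).mp
    (isIso_pushoutSection_of_isAffineOpen H le_rfl le_rfl _ hU (hU.preimage i) (hU.preimage f))
  rw [← Scheme.Hom.app_eq_appLE, ← Scheme.Hom.app_eq_appLE] at hpo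
  refine surjective_of_pushout hpo (i.app_surjective U hU) ?_ (IsFinite.finite_app f U hU) ?_
  · have := GrothLib.Thickening.le_nilradical_of_thickening i ⟨U, hU⟩
    rwa [Scheme.Hom.ker_apply] at this
  · rw [← Scheme.Hom.app_eq_appLE]
    exact (pullback.snd f i).app_surjective _ (hU.preimage i)

end GrothLib.ClosedBC6
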